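import Mathlib.RingTheory.Length
import Mathlib.RingTheory.LocalRing.ResidueField.Basic
import Mathlib.LinearAlgebra.LinearIndependent.Lemmas
import Mathlib.LinearAlgebra.FiniteDimensional.Basic

/-!
# Counting ring maps to a field by the length of a cokernel
-/

set_option autoImplicit false

universe u v w

namespace Groth.BranchCount

open IsLocalRing

variable {A : Type u} [CommRing A] [IsLocalRing A] {B : Type v} [CommRing B] [Algebra A B]
  {Ω : Type w} [Field Ω] [Algebra (ResidueField A) Ω]

/-- If a ring `B` over a local ring `A` has `n` distinct maps to a field over the residue field of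
`A`, then the cokernel of `A → B` has length at least `n - 1`. -/
theorem natCast_le_length_add_one {n : ℕ} (f : Fin n → (B →+* Ω)) (hf : Function.Injective f)
    (hA : ∀ i a, f i (algebraMap A B a) = algebraMap (ResidueField A) Ω (residue A a)) :
    (n : ℕ∞) ≤ Module.length A (B ⧸ LinearMap.range (Algebra.linearMap A B)) + 1 := by
  classical
  letI : Algebra A Ω := ((algebraMap (ResidueField A) Ω).comp (residue A)).toAlgebra
  let Φ : B →ₗ[A] (Fin n → Ω) :=
    { toFun := fun b i => f i b
      map_add' := fun x y => funext fun i => map_add (f i) x y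
      map_smul' := fun a x => funext fun i => by
        simp only [RingHom.id_apply, Pi.smul_apply, Algebra.smul_def, map_mul, hA,
          RingHom.algebraMap_toAlgebra, RingHom.comp_apply] }
  have hspan : Submodule.span Ω (Set.range Φ) = ⊤ := by
    by_contra hne
    obtain ⟨φ, hφ0, hφ⟩ := Submodule.exists_le_ker_of_lt_top _ (lt_top_iff_ne_top.2 hne)
    have hli : LinearIndependent Ω fun i => ((f i : B →* Ω) : B → Ω) :=
      (linearIndependent_monoidHom B Ω).comp (fun i => (f i : B →* Ω)) fun i j h =>
        hf (RingHom.ext fun b => DFunLike.congr_fun h b)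
    rw [Fintype.linearIndependent_iff] at hli
    refine hφ0 (LinearMap.pi_ext' fun i => LinearMap.ext_ring ?_)
    have hc := hli (fun i => φ (Pi.single i 1)) (funext fun b => by
      simp only [Finset.sum_apply, Pi.smul_apply, smul_eq_mul, Pi.zero_apply]
      have h0 : φ (Φ b) = 0 := hφ (Submodule.subset_span ⟨b, rfl⟩)
      have hsum : Φ b = ∑ i, (f i b) • (Pi.single i 1 : Fin n → Ω) := by
        funext k
        simp [Φ, Finset.sum_apply, Pi.single_apply]
      rw [hsum, map_sum] at h0
      simp only [map_smul, smul_eq_mul] at h0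
      rw [← h0]
      exact Finset.sum_congr rfl fun i _ => mul_comm _ _) i
    simpa using hc
  obtain ⟨s, hs, hspan', hli⟩ := exists_linearIndependent Ω (Set.range Φ)
  rw [hspan] at hspan'
  haveI : Finite s := hli.finite
  haveI := Fintype.ofFinite s
  have hcard : Fintype.card s = n := by
    have h1 := Module.finrank_eq_card_basis (Module.Basis.mk hli (by simp [hspan']))
    rw [Module.finrank_fintype_fun_eq_card, Fintype.card_fin] at h1
    exact h1.symm
  choose b hb using fun x : s => hs x.2
  let M := LinearMap.range Φ
  let h : (s → A) →ₗ[A] M := ∑ x : s, (LinearMap.proj x).smulRight (Φ.rangeRestrict (b x))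
  have hh : ∀ r : s → A, (h r : Fin n → Ω) = ∑ x : s, algebraMap A Ω (r x) • (x : Fin n → Ω) := by
    intro r
    simp only [h, LinearMap.sum_apply, LinearMap.smulRight_apply, LinearMap.proj_apply,
      Submodule.coe_sum, Submodule.coe_smul_of_tower]
    exact Finset.sum_congr rfl fun x _ => by
      rw [algebraMap_smul, show (Φ.rangeRestrict (b x) : Fin n → Ω) = x from hb x]
  let π : (s → A) →ₗ[A] (s → ResidueField A) :=
    LinearMap.compLeft (Algebra.linearMap A (ResidueField A)) s
  have hπ : Function.Surjective π := fun v => by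
    choose r hr using fun x => residue_surjective (v x)
    exact ⟨r, funext hr⟩
  have hker : LinearMap.ker h = LinearMap.ker π := by
    ext r
    simp only [LinearMap.mem_ker, ← Subtype.coe_inj, hh, ZeroMemClass.coe_zero]
    refine ⟨fun h0 => funext fun x => ?_, fun h0 => Finset.sum_eq_zero fun x _ => ?_⟩
    · have h1 := Fintype.linearIndependent_iff.1 hli _ h0 x
      exact (algebraMap (ResidueField A) Ω).injective (h1.trans (map_zero _).symm)
    · have h1 : residue A (r x) = 0 := congrFun h0 x
      rw [RingHom.algebraMap_toAlgebra, RingHom.comp_apply, h1, map_zero, zero_smul]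
  have hn : (n : ℕ∞) ≤ Module.length A M := by
    have h1 : Module.length A (s → ResidueField A) = n := by
      rw [Module.length_pi_of_fintype]
      haveI : IsSimpleModule A (ResidueField A) :=
        isSimpleModule_iff_quot_maximal.2 ⟨maximalIdeal A, inferInstance, ⟨LinearEquiv.refl _ _⟩⟩
      simp [Module.length_eq_one, hcard]
    rw [← h1]
    refine Module.length_le_of_injective (((LinearMap.ker π).liftQ h hker.ge).comp
      (π.quotKerEquivOfSurjective hπ).symm.toLinearMap) ?_
    rw [LinearMap.coe_comp]
    refine Function.Injective.comp ?_ (π.quotKerEquivOfSurjective hπ).symm.injective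
    rw [← LinearMap.ker_eq_bot, Submodule.ker_liftQ_eq_bot' _ _ hker.symm]
  let L : Submodule A M := LinearMap.range (Φ.rangeRestrict.comp (Algebra.linearMap A B))
  refine hn.trans ?_
  let ι' : L →ₗ[A] M := L.subtype
  let q' : M →ₗ[A] M ⧸ L := L.mkQ
  have hex : Function.Exact ι' q' := LinearMap.exact_subtype_mkQ L
  have heq : Module.length A M = Module.length A L + Module.length A (M ⧸ L) :=
    Module.length_eq_add_of_exact ι' q' (Submodule.injective_subtype L) L.mkQ_surjective hex
  rw [heq, add_comm]
  refine add_le_add ?_ ?_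
  · let q : (B ⧸ LinearMap.range (Algebra.linearMap A B)) →ₗ[A] M ⧸ L :=
      (LinearMap.range (Algebra.linearMap A B)).liftQ (L.mkQ.comp Φ.rangeRestrict) (by
        rintro _ ⟨a, rfl⟩
        rw [LinearMap.mem_ker, LinearMap.comp_apply, Submodule.mkQ_apply,
          Submodule.Quotient.mk_eq_zero]
        exact ⟨a, rfl⟩)
    refine Module.length_le_of_surjective q fun z => ?_
    obtain ⟨m, rfl⟩ := L.mkQ_surjective z
    obtain ⟨x, rfl⟩ := Φ.surjective_rangeRestrict m
    exact ⟨Submodule.Quotient.mk x, rfl⟩
  · let g := Φ.rangeRestrict.comp (Algebra.linearMap A B)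
    haveI : IsSimpleModule A (A ⧸ maximalIdeal A) :=
      isSimpleModule_iff_quot_maximal.2 ⟨maximalIdeal A, inferInstance, ⟨LinearEquiv.refl _ _⟩⟩
    rw [← Module.length_eq_one A (A ⧸ maximalIdeal A)]
    let g' : A →ₗ[A] L := g.rangeRestrict
    let g'' : (A ⧸ maximalIdeal A) →ₗ[A] L := Submodule.liftQ (M₂ := ↥L) (maximalIdeal A) g' ?_
    refine Module.length_le_of_surjective g'' ?_
    rotate_left
    · intro a ha
      rw [LinearMap.mem_ker]
      refine Subtype.ext (Subtype.ext (funext fun i => ?_))
      change f i (algebraMap A B a) = 0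
      rw [hA, (residue_eq_zero_iff a).2 ha, map_zero]
    · intro y
      obtain ⟨a, rfl⟩ := g.surjective_rangeRestrict y
      exact ⟨Submodule.Quotient.mk a, rfl⟩

end Groth.BranchCount
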